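import Cfsg.Agent.H42.Tower
set_option linter.all false

/-!
# Conjugation families

* `FChain 𝓕 A g`: the conjugation `a ↦ g⁻¹ a g` on `A` is performed step by step inside normalizers of
  members of `𝓕`, with the exact product `g`;
* `FChain.exists_fin`, `chain_of_fin`: conversion to the indexed form of `Cfsg.IsConjugationFamily`;
* `chain_of_fullyNormalized`: the criterion with fully normalized representatives.
-/

set_option autoImplicit false

namespace Cfsg.Agent.H42.Chain

open Subgroup Cfsg.Agent.Lib.GoldschmidtFusion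

variable {G : Type*} [Group G]

/-- Chains of conjugations through normalizers of members of the family `𝓕`. -/
inductive FChain (𝓕 : Set (Subgroup G)) : Set G → G → Prop
  | nil (A : Set G) : FChain 𝓕 A 1
  | cons (A : Set G) (T : Subgroup G) (x g : G) (hT : T ∈ 𝓕)
      (hx : x ∈ normalizer (T : Set G)) (hA : A ⊆ (T : Set G))
      (h : FChain 𝓕 ((fun a => x⁻¹ * a * x) '' A) g) : FChain 𝓕 A (x * g)

theorem image_conj_conj (A : Set G) (x y : G) :
    (fun a => y⁻¹ * a * y) '' ((fun a => x⁻¹ * a * x) '' A) =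
      (fun a => (x * y)⁻¹ * a * (x * y)) '' A := by
  rw [Set.image_image]
  apply Set.image_congr
  intro a _
  group

theorem image_conj_one (A : Set G) : (fun a => (1 : G)⁻¹ * a * 1) '' A = A := by
  simp

theorem FChain.mono {𝓕 : Set (Subgroup G)} {B : Set G} {g : G} (h : FChain 𝓕 B g) :
    ∀ A : Set G, A ⊆ B → FChain 𝓕 A g := by
  induction h with
  | nil B => intro A _; exact FChain.nil A
  | cons B T x g hT hx hB h ih =>
    intro A hA
    exact FChain.cons A T x g hT hx (hA.trans hB) (ih _ (Set.image_mono hA))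

theorem FChain.trans {𝓕 : Set (Subgroup G)} {A : Set G} {g : G} (h : FChain 𝓕 A g) :
    ∀ g' : G, FChain 𝓕 ((fun a => g⁻¹ * a * g) '' A) g' → FChain 𝓕 A (g * g') := by
  induction h with
  | nil A => intro g' h; rw [image_conj_one] at h; rw [one_mul]; exact h
  | cons A T x g hT hx hA h ih =>
    intro g' h'
    rw [mul_assoc]
    refine FChain.cons A T x (g * g') hT hx hA (ih g' ?_)
    rw [image_conj_conj]
    exact h'

theorem FChain.single {𝓕 : Set (Subgroup G)} (A : Set G) (T : Subgroup G) (x : G) (hT : T ∈ 𝓕)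
    (hx : x ∈ normalizer (T : Set G)) (hA : A ⊆ (T : Set G)) : FChain 𝓕 A x := by
  have := FChain.cons A T x 1 hT hx hA (FChain.nil _)
  rwa [mul_one] at this

theorem FChain.symm {𝓕 : Set (Subgroup G)} {A : Set G} {g : G} (h : FChain 𝓕 A g) :
    FChain 𝓕 ((fun a => g⁻¹ * a * g) '' A) g⁻¹ := by
  induction h with
  | nil A => rw [inv_one]; exact FChain.nil _
  | cons A T x g hT hx hA h ih =>
    rw [← image_conj_conj, mul_inv_rev]
    refine ih.trans _ ?_
    rw [image_conj_conj]
    have h1 : (fun a => (g * g⁻¹)⁻¹ * a * (g * g⁻¹)) '' ((fun a => x⁻¹ * a * x) '' A) =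
        (fun a => x⁻¹ * a * x) '' A := by
      rw [mul_inv_cancel]; exact image_conj_one _
    rw [h1]
    refine FChain.single _ T _ hT (inv_mem hx) ?_
    rintro _ ⟨a, ha, rfl⟩
    have h2 := (mem_normalizer_iff.1 (inv_mem hx) a).1 (hA ha)
    simpa using h2

/-- Conversion to the indexed form. -/
theorem FChain.exists_fin {𝓕 : Set (Subgroup G)} {A : Set G} {g : G} (h : FChain 𝓕 A g) :
    ∃ (n : ℕ) (T : Fin n → Subgroup G) (x : Fin n → G), (List.ofFn x).prod = g ∧
      (∀ i, T i ∈ 𝓕) ∧ (∀ i, x i ∈ normalizer ((T i : Subgroup G) : Set G)) ∧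
      (∀ h : 0 < n, A ⊆ T ⟨0, h⟩) ∧
      ∀ (i : Fin n) (h : i.val + 1 < n),
        (fun a => (((List.ofFn x).take (i.val + 1)).prod)⁻¹ * a *
          ((List.ofFn x).take (i.val + 1)).prod) '' A ⊆ T ⟨i.val + 1, h⟩ := by
  induction h with
  | nil A =>
    refine ⟨0, Fin.elim0, Fin.elim0, by simp, fun i => i.elim0, fun i => i.elim0,
      fun h => absurd h (lt_irrefl 0), fun i => i.elim0⟩
  | cons A T x g hT hx hA h ih =>
    obtain ⟨n, T', x', hprod, h1, h1', h2, h3⟩ := ih
    refine ⟨n + 1, Fin.cons T T', Fin.cons x x', ?_, ?_, ?_, ?_, ?_⟩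
    · rw [List.ofFn_succ, Fin.cons_zero, List.prod_cons]
      simp only [Fin.cons_succ]
      rw [hprod]
    · intro i
      refine Fin.cases ?_ ?_ i
      · exact hT
      · intro j
        exact h1 j
    · intro i
      refine Fin.cases ?_ ?_ i
      · exact hx
      · intro j
        exact h1' j
    · intro _
      exact hA
    · intro i hi
      have hi' : i.val < n := by omega
      have hlist : (List.ofFn (Fin.cons x x' : Fin (n + 1) → G)).take (i.val + 1) =
          x :: (List.ofFn x').take i.val := by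
        rw [List.ofFn_succ, Fin.cons_zero, List.take_succ_cons]
        simp only [Fin.cons_succ]
      rw [hlist, List.prod_cons, ← image_conj_conj]
      have hQi : (Fin.cons T T' : Fin (n + 1) → Subgroup G) ⟨i.val + 1, hi⟩ = T' ⟨i.val, hi'⟩ := rfl
      rw [hQi]
      obtain ⟨i, hlt⟩ := i
      cases i with
      | zero =>
        simp only [List.take_zero, List.prod_nil]
        rw [image_conj_one]
        exact h2 hi'
      | succ j =>
        exact h3 ⟨j, by omega⟩ hi'

/-- Conversion from the indexed form. -/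
theorem chain_of_fin {𝓕 : Set (Subgroup G)} : ∀ (n : ℕ) (A : Set G) (g : G)
    (T : Fin n → Subgroup G) (x : Fin n → G), (List.ofFn x).prod = g →
      (∀ i, T i ∈ 𝓕) → (∀ i, x i ∈ normalizer ((T i : Subgroup G) : Set G)) →
      (∀ h : 0 < n, A ⊆ T ⟨0, h⟩) →
      (∀ (i : Fin n) (h : i.val + 1 < n),
        (fun a => (((List.ofFn x).take (i.val + 1)).prod)⁻¹ * a *
          ((List.ofFn x).take (i.val + 1)).prod) '' A ⊆ T ⟨i.val + 1, h⟩) → FChain 𝓕 A g := by
  intro n
  induction n with
  | zero =>
    intro A g T x hg _ _ _ _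
    rw [List.ofFn_zero, List.prod_nil] at hg
    rw [← hg]
    exact FChain.nil A
  | succ n ih =>
    intro A g T x hg h1 h2 h3 h4
    rw [List.ofFn_succ, List.prod_cons] at hg
    rw [← hg]
    refine FChain.cons A (T 0) (x 0) _ (h1 0) (h2 0) (h3 (Nat.succ_pos n)) ?_
    refine ih _ _ (fun i => T i.succ) (fun i => x i.succ) rfl (fun i => h1 _) (fun i => h2 _) ?_ ?_
    · intro hn
      have := h4 0 (by simpa using hn)
      have hl : ((List.ofFn x).take ((0 : Fin (n + 1)).val + 1)).prod = x 0 := by
        rw [List.ofFn_succ]; simp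
      rw [hl] at this
      exact this
    · intro i hi
      rw [image_conj_conj]
      have := h4 i.succ (by simpa using hi)
      have hl : ((List.ofFn x).take (i.succ.val + 1)).prod =
          x 0 * ((List.ofFn fun i : Fin n => x i.succ).take (i.val + 1)).prod := by
        rw [List.ofFn_succ, Fin.val_succ, List.take_succ_cons, List.prod_cons]
      rw [hl] at this
      exact this

theorem isConjugationFamily_iff {𝓕 : Set (Subgroup G)} {S : Subgroup G} :
    IsConjugationFamily 𝓕 S ↔ (∀ T ∈ 𝓕, T ≤ S) ∧ ∀ (A : Set G) (g : G), A.Nonempty → A ⊆ S →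
      (fun a => g⁻¹ * a * g) '' A ⊆ S → FChain 𝓕 A g := by
  constructor
  · rintro ⟨h1, h2⟩
    refine ⟨h1, fun A g hne hA hAg => ?_⟩
    obtain ⟨n, T, x, e1, e2, e3, e4, e5⟩ := h2 A g hne hA hAg
    exact chain_of_fin n A g T x e1 e2 e3 e4 e5
  · rintro ⟨h1, h2⟩
    exact ⟨h1, fun A g hne hA hAg => (h2 A g hne hA hAg).exists_fin⟩

/-- `g⁻¹ A g` as a subgroup. -/
theorem coe_map_conj_inv (A : Subgroup G) (g : G) :
    ((A.map (MulAut.conj g⁻¹).toMonoidHom : Subgroup G) : Set G) = (fun a => g⁻¹ * a * g) '' (A : Set G) := by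
  ext x
  constructor
  · rintro ⟨a, ha, rfl⟩
    exact ⟨a, ha, by simp⟩
  · rintro ⟨a, ha, rfl⟩
    exact ⟨a, ha, by simp⟩

section Sylow

variable [Finite G] {p : ℕ} [hp : Fact p.Prime]

/-- **Criterion for conjugation families.** -/
theorem chain_of_fullyNormalized (S : Sylow p G) (𝓕 : Set (Subgroup G))
    (h𝓕 : ∀ U ∈ 𝓕, U ≤ (S : Subgroup G))
    (h : ∀ T : Subgroup G, T ≤ (S : Subgroup G) → ∃ U ∈ 𝓕,
      (∃ g : G, T.map (MulAut.conj g).toMonoidHom = U) ∧
      ¬ p ∣ ((S : Subgroup G) ⊓ normalizer (U : Set G)).relIndex (normalizer (U : Set G))) :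
    ∀ (n : ℕ) (T : Subgroup G) (g : G), T ≤ (S : Subgroup G) →
      T.map (MulAut.conj g⁻¹).toMonoidHom ≤ (S : Subgroup G) → Nat.card G - Nat.card T ≤ n →
      FChain 𝓕 (T : Set G) g := by
  have hS : IsPGroup p (S : Subgroup G) := S.isPGroup'
  have hcard : ∀ A : Subgroup G, Nat.card A ≤ Nat.card G := fun A => Subgroup.card_le_card_group A
  have hlt : ∀ A B : Subgroup G, A < B → Nat.card A < Nat.card B := by
    intro A B hAB
    refine lt_of_le_of_ne (Subgroup.card_le_of_le hAB.le) ?_
    intro heq
    exact hAB.ne (Subgroup.eq_of_le_of_card_ge hAB.le heq.ge)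
  intro n
  induction n with
  | zero =>
    intro T g hT hTg hn
    have h1 : T = ⊤ := by
      rw [← Subgroup.card_eq_iff_eq_top]
      have := hcard T
      omega
    have h2 : (S : Subgroup G) = ⊤ := top_le_iff.1 (h1 ▸ hT)
    obtain ⟨U, hU, ⟨k, hk⟩, -⟩ := h T hT
    refine FChain.single _ U g hU ?_ ?_
    · rw [mem_normalizer_iff_map_conj]
      have h3 : U = ⊤ := by
        rw [← hk, h1]
        exact Subgroup.map_top_of_surjective _ (MulAut.conj k).surjective
      rw [h3]
      exact Subgroup.map_top_of_surjective _ (MulAut.conj g).surjective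
    · have h3 : U = ⊤ := by
        rw [← hk, h1]
        exact Subgroup.map_top_of_surjective _ (MulAut.conj k).surjective
      rw [h3]; exact Set.subset_univ _
  | succ n ih =>
    intro T g hT hTg hn
    obtain ⟨U, hU, ⟨k, hk⟩, hUi⟩ := h T hT
    by_cases hTS : T = (S : Subgroup G)
    · -- `T = S`
      have hUS : U = (S : Subgroup G) := by
        refine Subgroup.eq_of_le_of_card_ge (h𝓕 U hU) ?_
        rw [← hk, card_map_conj, hTS]
      refine FChain.single _ U g hU ?_ (by rw [hUS, hTS])
      have h1 : T.map (MulAut.conj g⁻¹).toMonoidHom = T := by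
        refine Subgroup.eq_of_le_of_card_ge (by rw [hTS] at hTg ⊢; exact hTg) ?_
        rw [card_map_conj]
      have h2 : g⁻¹ ∈ normalizer (T : Set G) := mem_normalizer_iff_map_conj.2 h1
      rw [hUS, ← hTS]
      simpa using inv_mem h2
    · have hTlt : T < (S : Subgroup G) := lt_of_le_of_ne hT hTS
      have hgrow := lt_inf_normalizer hS hTlt
      set V := T.map (MulAut.conj g⁻¹).toMonoidHom with hV
      have hVlt : V < (S : Subgroup G) := by
        refine lt_of_le_of_ne hTg ?_
        intro heq
        apply hTS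
        refine Subgroup.eq_of_le_of_card_ge hT ?_
        rw [← heq, hV, card_map_conj]
      have hVgrow := lt_inf_normalizer hS hVlt
      have hVcard : Nat.card V = Nat.card T := card_map_conj _ _
      obtain ⟨x, hx, hxN⟩ := exists_extension S hk hUi
      have hkV : V.map (MulAut.conj (k * g)).toMonoidHom = U := by
        rw [hV, map_conj_map_conj, ← hk]
        congr 3
        group
      obtain ⟨y, hy, hyN⟩ := exists_extension S hkV hUi
      -- `x`, `y` are realised on the larger subgroups
      have hX : FChain 𝓕 (T : Set G) x⁻¹ := by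
        have h1 := ih ((S : Subgroup G) ⊓ normalizer (T : Set G)) x⁻¹ inf_le_left
          (by rw [inv_inv]; exact hxN.trans inf_le_left) (by
            have := hlt _ _ hgrow
            have := hcard ((S : Subgroup G) ⊓ normalizer (T : Set G))
            omega)
        exact h1.mono _ (fun a ha => hgrow.le ha)
      have hY : FChain 𝓕 (V : Set G) y⁻¹ := by
        have h1 := ih ((S : Subgroup G) ⊓ normalizer (V : Set G)) y⁻¹ inf_le_left
          (by rw [inv_inv]; exact hyN.trans inf_le_left) (by
            have := hlt _ _ hVgrow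
            have := hcard ((S : Subgroup G) ⊓ normalizer (V : Set G))
            omega)
        exact h1.mono _ (fun a ha => hVgrow.le ha)
      have hYs := hY.symm
      have hXim : (fun a => (x⁻¹)⁻¹ * a * x⁻¹) '' (T : Set G) = (U : Set G) := by
        rw [← coe_map_conj_inv, inv_inv, hx]
      have hYim : (fun a => (y⁻¹)⁻¹ * a * y⁻¹) '' (V : Set G) = (U : Set G) := by
        rw [← coe_map_conj_inv, inv_inv, hy]
      rw [hYim, inv_inv] at hYs
      -- the middle element
      have hz : x * g * y⁻¹ ∈ normalizer (U : Set G) := by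
        rw [mem_normalizer_iff_map_conj]
        have h1 : U.map (MulAut.conj (x * g * y⁻¹)).toMonoidHom = T.map (MulAut.conj x).toMonoidHom := by
          conv_lhs => rw [← hy, hV, map_conj_map_conj, map_conj_map_conj]
          congr 3
          group
        rw [h1, hx]
      have hprod : g = x⁻¹ * ((x * g * y⁻¹) * y) := by group
      rw [hprod]
      refine hX.trans _ ?_
      rw [hXim]
      refine (FChain.single _ U _ hU hz (Set.Subset.refl _)).trans _ ?_
      have hzim : (fun a => (x * g * y⁻¹)⁻¹ * a * (x * g * y⁻¹)) '' (U : Set G) = (U : Set G) := by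
        rw [← coe_map_conj_inv]
        have := mem_normalizer_iff_map_conj.1 (inv_mem hz)
        rw [this]
      rw [hzim]
      exact hYs

theorem isConjugationFamily_of_fullyNormalized (S : Sylow p G) (𝓕 : Set (Subgroup G))
    (h𝓕 : ∀ U ∈ 𝓕, U ≤ (S : Subgroup G))
    (h : ∀ T : Subgroup G, T ≤ (S : Subgroup G) → ∃ U ∈ 𝓕,
      (∃ g : G, T.map (MulAut.conj g).toMonoidHom = U) ∧
      ¬ p ∣ ((S : Subgroup G) ⊓ normalizer (U : Set G)).relIndex (normalizer (U : Set G))) :
    IsConjugationFamily 𝓕 (S : Subgroup G) := by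
  rw [isConjugationFamily_iff]
  refine ⟨h𝓕, fun A g _ hA hAg => ?_⟩
  have h1 : Subgroup.closure A ≤ (S : Subgroup G) := (Subgroup.closure_le _).2 hA
  have h2 : (Subgroup.closure A).map (MulAut.conj g⁻¹).toMonoidHom ≤ (S : Subgroup G) := by
    rw [MonoidHom.map_closure, Subgroup.closure_le]
    rintro _ ⟨a, ha, rfl⟩
    have := hAg ⟨a, ha, rfl⟩
    simpa using this
  exact (chain_of_fullyNormalized S 𝓕 h𝓕 h _ _ g h1 h2 le_rfl).mono _ Subgroup.subset_closure

end Sylow

end Cfsg.Agent.H42.Chain
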