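import Cfsg.Agent.H42.Control
set_option linter.all false

-- part: H42/RepFusion
section
/-!
# The Alperin–Goldschmidt fusion theorem with prescribed representatives

`gen_of_conj_rep`: adaptation of `Lib.GoldschmidtFusion.gen_of_conj`.
-/

set_option autoImplicit false

namespace Cfsg.Agent.H42.RepFusion

open Subgroup Cfsg.Agent.Lib.GoldschmidtFusion

variable {G : Type*} [Group G] [Finite G] {p : ℕ} [hp : Fact p.Prime]

/-- **Alperin–Goldschmidt fusion theorem** (centric form) with prescribed representatives of the conjugacy classes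
of subgroups of `P`: it suffices that `F` holds for `P` and for the centric representatives `X < P`. -/
theorem gen_of_conj_rep (P : Sylow p G) (F R : Subgroup G → Prop) (hP : F P)
    (hrep : ∀ A : Subgroup G, A ≤ P → ∃ k : G, A.map (MulAut.conj k).toMonoidHom ≤ P ∧
      R (A.map (MulAut.conj k).toMonoidHom))
    (hRi : ∀ X : Subgroup G, X ≤ P → R X →
      ¬ p ∣ ((P : Subgroup G) ⊓ normalizer (X : Set G)).relIndex (normalizer (X : Set G)))
    (hF : ∀ X : Subgroup G, X < P → R X →
      centralizer (X : Set G) ⊓ P ≤ X →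
      (∃ g ∈ normalizer (X : Set G), Nat.Coprime (orderOf g) p ∧ g ∉ centralizer (X : Set G)) → F X)
    {A : Subgroup G} (hA : A ≤ P) {g : G} (hg : A.map (MulAut.conj g).toMonoidHom ≤ P) :
    Gen (P : Subgroup G) F A g := by
  -- downward induction on the order of `A`
  have key : ∀ k : ℕ, ∀ A : Subgroup G, A ≤ P → Nat.card P ≤ Nat.card A + k → ∀ g : G,
      A.map (MulAut.conj g).toMonoidHom ≤ P → Gen (P : Subgroup G) F A g := by
    intro k
    induction k with
    | zero =>
      intro A hA hk g hg
      have hAP : A = P := Subgroup.eq_of_le_of_card_ge hA (by simpa using hk)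
      rw [hAP] at hg
      have hgN : g ∈ normalizer ((P : Subgroup G) : Set G) :=
        mem_normalizer_iff_map_conj.2 (map_conj_le_of_le_normalizer hg)
      exact Gen.base le_rfl hP hA hgN
    | succ k ih =>
      intro A hA hk g hg
      by_cases hAP : A = P
      · rw [hAP] at hg
        have hgN : g ∈ normalizer ((P : Subgroup G) : Set G) :=
          mem_normalizer_iff_map_conj.2 (map_conj_le_of_le_normalizer hg)
        exact Gen.base le_rfl hP hA hgN
      have hlt : A < P := lt_of_le_of_ne hA hAP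
      -- everything larger than `A` is fine
      have big : ∀ D : Subgroup G, D ≤ P → Nat.card A < Nat.card D → ∀ g : G,
          D.map (MulAut.conj g).toMonoidHom ≤ P → Gen (P : Subgroup G) F D g := by
        intro D hD hc g hg
        exact ih D hD (by omega) g hg
      -- any conjugate of `A` in `P`
      have ext : ∀ A' : Subgroup G, A' ≤ P → Nat.card A' = Nat.card A → ∀ (B : Subgroup G) (k : G),
          A'.map (MulAut.conj k).toMonoidHom = B →
          ¬ p ∣ ((P : Subgroup G) ⊓ normalizer (B : Set G)).relIndex (normalizer (B : Set G)) →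
          ∃ h : G, A'.map (MulAut.conj h).toMonoidHom = B ∧ Gen (P : Subgroup G) F A' h := by
        intro A' hA' hcard B k hk hB
        obtain ⟨h, hh, hle⟩ := exists_extension P hk hB
        refine ⟨h, hh, ?_⟩
        have hlt' : A' < P := by
          refine lt_of_le_of_ne hA' ?_
          rintro rfl
          exact hAP (Subgroup.eq_of_le_of_card_ge hA hcard.le)
        have h1 : A' < (P : Subgroup G) ⊓ normalizer (A' : Set G) :=
          lt_inf_normalizer P.isPGroup' hlt'
        have h2 : Nat.card A < Nat.card ((P : Subgroup G) ⊓ normalizer (A' : Set G) : Subgroup G) := by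
          rw [← hcard]
          exact Set.Finite.card_lt_card (Set.toFinite _) h1
        exact (big _ inf_le_left h2 h (hle.trans inf_le_left)).mono h1.le
      obtain ⟨k₁, hB, hBR⟩ := hrep A hA
      have hBi := hRi _ hB hBR
      set B := A.map (MulAut.conj k₁).toMonoidHom with hBdef
      obtain ⟨h₁, hh₁, hgen₁⟩ := ext A hA rfl B k₁ rfl hBi
      obtain ⟨h₂, hh₂, hgen₂⟩ := ext (A.map (MulAut.conj g).toMonoidHom) hg (card_map_conj A g) B
        (k₁ * g⁻¹) (by rw [map_conj_map_conj]; simp [hBdef]) hBi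
      set n := h₂ * g * h₁⁻¹ with hn
      have hnN : n ∈ normalizer (B : Set G) := by
        rw [mem_normalizer_iff_map_conj]
        nth_rewrite 1 [← hh₁]
        rw [map_conj_map_conj, hn]
        have : h₂ * g * h₁⁻¹ * h₁ = h₂ * g := by group
        rw [this, ← map_conj_map_conj, hh₂]
      have hcardB : Nat.card B = Nat.card A := card_map_conj A k₁
      -- main claim
      have main : Gen (P : Subgroup G) F B n := by
        by_cases hcent : centralizer (B : Set G) ⊓ P ≤ B
        · by_cases hcop : ∃ g ∈ normalizer (B : Set G), Nat.Coprime (orderOf g) p ∧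
              g ∉ centralizer (B : Set G)
          · have hBlt : B < P := by
              refine lt_of_le_of_ne hB ?_
              intro h
              apply hAP
              apply Subgroup.eq_of_le_of_card_ge hA
              rw [← hcardB, h]
            exact Gen.base hB (hF B hBlt hBR hcent hcop) le_rfl hnN
          · push Not at hcop
            obtain ⟨s, hs, c, hc, hsc⟩ := exists_mul_of_pGroup_automizer P hBi hcop hnN
            rw [hsc]
            refine Gen.mul (Gen.cent hB hc) ?_
            rw [map_conj_of_mem_centralizer hc]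
            exact Gen.base le_rfl hP hB (le_normalizer hs.1)
        · -- `B` is not centric
          set T := centralizer (B : Set G) ⊓ (P : Subgroup G) with hT
          have hTC : ¬ p ∣ T.relIndex (centralizer (B : Set G)) := not_dvd_relIndex_centralizer P hBi
          have hTp : IsPGroup p T := P.isPGroup'.to_le inf_le_right
          have hle : T.map (MulAut.conj n).toMonoidHom ≤ centralizer (B : Set G) := by
            rintro _ ⟨t, ht, rfl⟩
            have h1 : t ∈ centralizer (B : Set G) := ht.1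
            have h2 : n * t * n⁻¹ ∈ centralizer (B : Set G) := by
              rw [← mem_normalizer_iff_map_conj.1 hnN, mem_centralizer_map_conj]
              simpa [mul_assoc] using h1
            simpa using h2
          obtain ⟨c, hc, hcT⟩ := exists_conj_le_in (p := p) hTp hTC hle (hTp.map _)
          rw [map_conj_map_conj] at hcT
          have hcn : c * n ∈ normalizer (B : Set G) := mul_mem (centralizer_le_normalizer _ hc) hnN
          have hD : (B ⊔ T).map (MulAut.conj (c * n)).toMonoidHom ≤ P := by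
            rw [Subgroup.map_sup, mem_normalizer_iff_map_conj.1 hcn]
            exact sup_le hB (hcT.trans inf_le_right)
          have hDcard : Nat.card A < Nat.card (B ⊔ T : Subgroup G) := by
            rw [← hcardB]
            refine Set.Finite.card_lt_card (Set.toFinite _) ?_
            have : B < B ⊔ T := left_lt_sup.2 hcent
            exact this
          have h1 := (big (B ⊔ T) (sup_le hB inf_le_right) hDcard (c * n) hD).mono
            (le_sup_left : B ≤ B ⊔ T)
          have h2 : n = c⁻¹ * (c * n) := by group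
          rw [h2]
          refine Gen.mul h1 ?_
          rw [mem_normalizer_iff_map_conj.1 hcn]
          exact Gen.cent hB (inv_mem hc)
      have hfin : g = h₂⁻¹ * (n * h₁) := by rw [hn]; group
      rw [hfin]
      refine Gen.mul (Gen.mul hgen₁ (by rw [hh₁]; exact main)) ?_
      have h3 : A.map (MulAut.conj (n * h₁)).toMonoidHom = B := by
        rw [← map_conj_map_conj, hh₁]
        exact mem_normalizer_iff_map_conj.1 hnN
      rw [h3, ← hh₂]
      exact hgen₂.symm
  exact key (Nat.card P) A hA (Nat.le_add_left _ _) g hg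

end Cfsg.Agent.H42.RepFusion
end

-- part: H42/CentralFunctor
section
/-!
# A conjugacy functor together with a central functor (S2001, S2002)
-/

set_option autoImplicit false

namespace Cfsg.Agent.H42.CentralFunctor

open Subgroup Cfsg.Agent.Lib.GoldschmidtFusion Cfsg.Agent.H42.Tower Cfsg.Agent.H42.Chain
  Cfsg.Agent.H42.Control

open scoped commutatorElement

variable {G : Type*} [Group G] [Finite G] {p : ℕ} [hp : Fact p.Prime] {W V : Subgroup G → Subgroup G}

/-- A Sylow `p`-subgroup is well placed in itself. -/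
theorem wellPlaced_self (P : Sylow p G) (hW : IsConjugacyFunctor p W) :
    IsWellPlaced p W (P : Subgroup G) (P : Subgroup G) := by
  refine ⟨le_rfl, fun i => ?_⟩
  have hP : IsPGroup p (P : Subgroup G) := P.isPGroup'
  have h1 : (P : Subgroup G) ≤ (P : Subgroup G) ⊓
      normalizer ((functorTower W (P : Subgroup G) (P : Subgroup G) i : Subgroup G) : Set G) := by
    refine le_trans ?_ (tower_norm_le hW hP (P : Subgroup G) (Nat.zero_le i))
    exact le_inf le_rfl le_normalizer
  have h2 : (P : Subgroup G) ⊓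
      normalizer ((functorTower W (P : Subgroup G) (P : Subgroup G) i : Subgroup G) : Set G) =
      (P : Subgroup G) := le_antisymm inf_le_left h1
  rw [h2]
  intro h
  apply P.not_dvd_index
  refine h.trans ?_
  have h3 : (P : Subgroup G) ≤
      normalizer ((functorTower W (P : Subgroup G) (P : Subgroup G) i : Subgroup G) : Set G) :=
    h1.trans inf_le_right
  exact Subgroup.relIndex_dvd_index_of_le h3

/-- The fusion in `P` is generated by the normalizers of the well-placed subgroups containing `Z(P)`. -/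
theorem gen_wellPlaced (P : Sylow p G) (hW : IsConjugacyFunctor p W) {A : Subgroup G}
    (hA : A ≤ (P : Subgroup G)) {g : G} (hg : A.map (MulAut.conj g).toMonoidHom ≤ (P : Subgroup G)) :
    Gen (P : Subgroup G) (fun X => IsWellPlaced p W (P : Subgroup G) X ∧
      (P : Subgroup G) ⊓ centralizer ((P : Subgroup G) : Set G) ≤ X) A g := by
  refine Cfsg.Agent.H42.RepFusion.gen_of_conj_rep P _ (IsWellPlaced p W (P : Subgroup G))
    ⟨wellPlaced_self P hW, inf_le_left⟩ ?_ ?_ ?_ hA hg
  · intro B hB
    obtain ⟨k, hk⟩ := exists_wellPlaced P hW B hB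
    exact ⟨k, hk.1, hk⟩
  · intro X _ hX
    exact hX.2 0
  · intro X hX hR hc _
    refine ⟨hR, le_trans (le_inf ?_ inf_le_left) hc⟩
    exact inf_le_right.trans (centralizer_le (by
      intro x hx
      exact hX.le hx))

omit [Finite G] in
theorem map_conj_comm_inf {N : Subgroup G} {n : G} (hn : n ∈ N) (B : Subgroup G) :
    (⁅N ⊓ B, N ⊓ B⁆).map (MulAut.conj n).toMonoidHom =
      ⁅N ⊓ B.map (MulAut.conj n).toMonoidHom, N ⊓ B.map (MulAut.conj n).toMonoidHom⁆ := by
  rw [Subgroup.map_commutator, Subgroup.map_inf _ _ (MulAut.conj n).toMonoidHom (MulAut.conj n).injective,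
    map_conj_eq_of_mem hn]

omit [Finite G] hp in
theorem map_conj_centralizer (A : Subgroup G) (g : G) :
    (centralizer (A : Set G)).map (MulAut.conj g).toMonoidHom =
      centralizer ((A.map (MulAut.conj g).toMonoidHom : Subgroup G) : Set G) := by
  ext x
  rw [mem_map_conj, mem_centralizer_map_conj]

section Common

variable (P : Sylow p G) (hdiv : p ∣ Nat.card G)
  (hW : IsConjugacyFunctor p W) (hV : IsConjugacyFunctor p V)
  (hWZ : ∀ H : Subgroup G, IsPGroup p ↥H → H ⊓ centralizer ((H : Subgroup G) : Set G) ≤ W H)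
  (hVZ : ∀ H : Subgroup G, IsPGroup p ↥H → V H ≤ H ⊓ centralizer ((H : Subgroup G) : Set G))
  (hVmono : ∀ H K : Subgroup G, IsPGroup p ↥H → IsPGroup p ↥K → H ≠ ⊥ → K ≠ ⊥ →
    H ⊓ centralizer ((H : Subgroup G) : Set G) ≤ K ⊓ centralizer ((K : Subgroup G) : Set G) → V H ≤ V K)

include hdiv in
theorem sylow_ne_bot : (P : Subgroup G) ≠ ⊥ := by
  intro h
  have h1 := P.dvd_card_of_dvd_card hdiv
  rw [h, Subgroup.card_bot] at h1
  exact hp.out.one_lt.ne' (Nat.dvd_one.1 h1)

omit [Finite G] hp in
/-- `Z(P) ≤ Z(Q)` for `Z(P) ≤ Q ≤ P`. -/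
theorem center_le {Q : Subgroup G} (hQP : Q ≤ (P : Subgroup G))
    (hZQ : (P : Subgroup G) ⊓ centralizer ((P : Subgroup G) : Set G) ≤ Q) :
    (P : Subgroup G) ⊓ centralizer ((P : Subgroup G) : Set G) ≤ Q ⊓ centralizer (Q : Set G) :=
  le_inf hZQ (inf_le_right.trans (centralizer_le (by
    intro x hx
    exact hQP hx)))

include hdiv hVmono in
/-- `C(V Q) ≤ C(V P)` for `Z(P) ≤ Q ≤ P`. -/
theorem centralizer_V_le {Q : Subgroup G} (hQP : Q ≤ (P : Subgroup G))
    (hZQ : (P : Subgroup G) ⊓ centralizer ((P : Subgroup G) : Set G) ≤ Q) :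
    centralizer ((V Q : Subgroup G) : Set G) ≤ centralizer ((V (P : Subgroup G) : Subgroup G) : Set G) := by
  have hP : IsPGroup p (P : Subgroup G) := P.isPGroup'
  have hne := sylow_ne_bot P hdiv
  have hQne : Q ≠ ⊥ := by
    rintro rfl
    -- the centre of `P` is nontrivial
    have h1 : Nontrivial (P : Subgroup G) := (nontrivial_iff_ne_bot _).2 hne
    have h2 := hP.center_nontrivial
    obtain ⟨z, hz⟩ := exists_ne (1 : center (P : Subgroup G))
    apply hz
    have h3 : ((z : (P : Subgroup G)) : G) ∈ (P : Subgroup G) ⊓ centralizer ((P : Subgroup G) : Set G) := by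
      refine mem_inf.2 ⟨(z : (P : Subgroup G)).2, ?_⟩
      rw [mem_centralizer_iff]
      intro y hy
      have := mem_center_iff.1 z.2 ⟨y, hy⟩
      exact congrArg Subtype.val this
    have h4 := hZQ h3
    rw [mem_bot] at h4
    exact Subtype.ext (Subtype.ext h4)
  exact centralizer_le (by
    intro x hx
    exact hVmono _ _ hP (hP.to_le hQP) hne hQne (center_le P hQP hZQ) hx)

end Common

/-- **S2001**. -/
theorem transfer_tower2 (P : Sylow p G) (hdiv : p ∣ Nat.card G)
    (hW : IsConjugacyFunctor p W) (hV : IsConjugacyFunctor p V)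
    (hWZ : ∀ H : Subgroup G, IsPGroup p ↥H → H ⊓ centralizer ((H : Subgroup G) : Set G) ≤ W H)
    (hVmono : ∀ H K : Subgroup G, IsPGroup p ↥H → IsPGroup p ↥K → H ≠ ⊥ → K ≠ ⊥ →
      H ⊓ centralizer ((H : Subgroup G) : Set G) ≤ K ⊓ centralizer ((K : Subgroup G) : Set G) → V H ≤ V K)
    (hloc : ∀ H : Subgroup G, (P : Subgroup G) ⊓ centralizer (((P : Subgroup G) : Subgroup G) : Set G) ≤ H →
      H ≤ (P : Subgroup G) → ∃ Q : Subgroup G, Q ≤ normalizer ((H : Subgroup G) : Set G) ∧ IsPGroup p ↥Q ∧
      ¬ p ∣ (Q).relIndex (normalizer ((H : Subgroup G) : Set G)) ∧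
      ∀ x : G, x ∈ Q ⊓ ⁅normalizer ((H : Subgroup G) : Set G), normalizer ((H : Subgroup G) : Set G)⁆ ↔
        ∃ a ∈ Q ⊓ ⁅normalizer ((H : Subgroup G) : Set G) ⊓ normalizer ((W Q : Subgroup G) : Set G),
          normalizer ((H : Subgroup G) : Set G) ⊓ normalizer ((W Q : Subgroup G) : Set G)⁆,
        ∃ b ∈ Q ⊓ ⁅normalizer ((H : Subgroup G) : Set G) ⊓ centralizer ((V Q : Subgroup G) : Set G),
          normalizer ((H : Subgroup G) : Set G) ⊓ centralizer ((V Q : Subgroup G) : Set G)⁆, x = a * b) :
    ∀ (n : ℕ) (T : Subgroup G), IsWellPlaced p W (P : Subgroup G) T →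
      (P : Subgroup G) ⊓ centralizer ((P : Subgroup G) : Set G) ≤ T →
      Nat.card G - Nat.card ↥((P : Subgroup G) ⊓ normalizer (T : Set G)) ≤ n →
      (P : Subgroup G) ⊓ normalizer (T : Set G) ⊓ ⁅normalizer (T : Set G), normalizer (T : Set G)⁆ ≤
        ((P : Subgroup G) ⊓ ⁅normalizer ((W (P : Subgroup G) : Subgroup G) : Set G),
          normalizer ((W (P : Subgroup G) : Subgroup G) : Set G)⁆) ⊔
        ((P : Subgroup G) ⊓ ⁅centralizer ((V (P : Subgroup G) : Subgroup G) : Set G),
          centralizer ((V (P : Subgroup G) : Subgroup G) : Set G)⁆) := by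
  have hP : IsPGroup p (P : Subgroup G) := P.isPGroup'
  -- the local condition for `N_P(T)`
  have hloc' : ∀ T : Subgroup G, IsWellPlaced p W (P : Subgroup G) T →
      (P : Subgroup G) ⊓ centralizer ((P : Subgroup G) : Set G) ≤ T →
      (P : Subgroup G) ⊓ normalizer (T : Set G) ⊓ ⁅normalizer (T : Set G), normalizer (T : Set G)⁆ ≤
        ((P : Subgroup G) ⊓ normalizer (T : Set G) ⊓
          ⁅normalizer ((W ((P : Subgroup G) ⊓ normalizer (T : Set G)) : Subgroup G) : Set G),
            normalizer ((W ((P : Subgroup G) ⊓ normalizer (T : Set G)) : Subgroup G) : Set G)⁆) ⊔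
        ((P : Subgroup G) ⊓ ⁅centralizer ((V (P : Subgroup G) : Subgroup G) : Set G),
          centralizer ((V (P : Subgroup G) : Subgroup G) : Set G)⁆) := by
    intro T hTw hZT
    obtain ⟨Q, hQN, hQ, hQi, hQx⟩ := hloc T hZT hTw.1
    set N := normalizer (T : Set G) with hN
    obtain ⟨n, hn, hnQ⟩ := exists_conj_sylow_in hQN (inf_le_right : (P : Subgroup G) ⊓ N ≤ N) hQ
      (hP.to_le inf_le_left) hQi (hTw.2 0)
    set R := (P : Subgroup G) ⊓ N with hR
    have hZR : (P : Subgroup G) ⊓ centralizer ((P : Subgroup G) : Set G) ≤ R :=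
      le_inf inf_le_left (hZT.trans le_normalizer)
    intro x hx
    have h1 : n⁻¹ * x * n ∈ Q ⊓ ⁅N, N⁆ := by
      have h2 : R ⊓ ⁅N, N⁆ = (Q ⊓ ⁅N, N⁆).map (MulAut.conj n).toMonoidHom := by
        rw [Subgroup.map_inf _ _ (MulAut.conj n).toMonoidHom (MulAut.conj n).injective, hnQ,
          Subgroup.map_commutator, map_conj_eq_of_mem hn]
      rw [h2, mem_map_conj] at hx
      exact hx
    obtain ⟨a, ha, b, hb, hab⟩ := (hQx _).1 h1
    have hxab : x = (n * a * n⁻¹) * (n * b * n⁻¹) := by
      have : x = n * (n⁻¹ * x * n) * n⁻¹ := by group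
      rw [this, hab]; group
    rw [hxab]
    refine mul_mem (mem_sup_left ?_) (mem_sup_right ?_)
    · have h3 := conj_mem_map_conj ha n
      rw [Subgroup.map_inf _ _ (MulAut.conj n).toMonoidHom (MulAut.conj n).injective, hnQ,
        map_conj_comm_inf hn, map_conj_normalizer, ← W_conj hW hQ, hnQ] at h3
      exact mem_inf.2 ⟨(mem_inf.1 h3).1, commutator_mono inf_le_right inf_le_right (mem_inf.1 h3).2⟩
    · have h3 := conj_mem_map_conj hb n
      rw [Subgroup.map_inf _ _ (MulAut.conj n).toMonoidHom (MulAut.conj n).injective, hnQ,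
        map_conj_comm_inf hn, map_conj_centralizer, ← W_conj hV hQ, hnQ] at h3
      refine mem_inf.2 ⟨(inf_le_left : R ≤ _) (mem_inf.1 h3).1, ?_⟩
      have h4 := centralizer_V_le P hdiv hVmono (inf_le_left : R ≤ (P : Subgroup G)) hZR
      exact commutator_mono (inf_le_right.trans h4) (inf_le_right.trans h4) (mem_inf.1 h3).2
  intro n
  induction n with
  | zero =>
    intro T hTw hZT hn
    have h1 : (P : Subgroup G) ⊓ normalizer (T : Set G) = ⊤ := by
      rw [← Subgroup.card_eq_iff_eq_top]
      have := Subgroup.card_le_card_group ((P : Subgroup G) ⊓ normalizer (T : Set G))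
      omega
    have h2 : (P : Subgroup G) ⊓ normalizer (T : Set G) = (P : Subgroup G) := by
      rw [h1]; exact (top_le_iff.1 (h1 ▸ inf_le_left)).symm
    have h3 := hloc' T hTw hZT
    rw [h2] at h3 ⊢
    exact h3
  | succ n ih =>
    intro T hTw hZT hn
    refine (hloc' T hTw hZT).trans (sup_le ?_ le_sup_right)
    set R := (P : Subgroup G) ⊓ normalizer (T : Set G) with hR
    have hRp : IsPGroup p R := hP.to_le inf_le_left
    have hZR : (P : Subgroup G) ⊓ centralizer ((P : Subgroup G) : Set G) ≤ R :=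
      le_inf inf_le_left (hZT.trans le_normalizer)
    by_cases hRP : R = (P : Subgroup G)
    · rw [hRP]; exact le_sup_left
    · have hlt := lt_succ (p := p) hW hP hRP
      have hcard : Nat.card R < Nat.card ↥((P : Subgroup G) ⊓ normalizer ((W R : Subgroup G) : Set G)) := by
        refine lt_of_le_of_ne (Subgroup.card_le_of_le hlt.le) ?_
        intro heq
        exact hlt.ne (Subgroup.eq_of_le_of_card_ge hlt.le heq.ge)
      have h1 := ih (W R) (wellPlaced_succ hW hP hTw)
        ((center_le P inf_le_left hZR).trans (hWZ R hRp)) (by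
        have := Subgroup.card_le_card_group ((P : Subgroup G) ⊓ normalizer ((W R : Subgroup G) : Set G))
        omega)
      exact le_trans (inf_le_inf_right _ hlt.le) h1

omit [Finite G] in
theorem le_normalizer_inf_commutator {P M : Subgroup G} (hPM : P ≤ M) :
    P ≤ normalizer ((P ⊓ ⁅M, M⁆ : Subgroup G) : Set G) := by
  intro s hs
  rw [mem_normalizer_iff_map_conj,
    Subgroup.map_inf _ _ (MulAut.conj s).toMonoidHom (MulAut.conj s).injective,
    Subgroup.map_commutator, map_conj_eq_of_mem hs, map_conj_eq_of_mem (hPM hs)]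

omit [Finite G] in
/-- The elements `a⁻¹ a^g` along a chain of fusion steps. -/
theorem gen_comm_mem {P Z : Subgroup G} {F : Subgroup G → Prop}
    (hF : ∀ X : Subgroup G, X ≤ P → F X → P ⊓ normalizer (X : Set G) ⊓
      ⁅normalizer (X : Set G), normalizer (X : Set G)⁆ ≤ Z) {A : Subgroup G} {g : G} (h : Gen P F A g) :
    ∀ a ∈ A, a⁻¹ * (g * a * g⁻¹) ∈ Z := by
  induction h with
  | @cent A c hA hc =>
    intro a ha
    rw [conj_eq_of_mem_centralizer hc ha, inv_mul_cancel]
    exact one_mem _
  | @base A X g hX hFX hAX hg =>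
    intro a ha
    apply hF X hX hFX
    have haX : a ∈ X := hAX ha
    have haN : a ∈ normalizer (X : Set G) := le_normalizer haX
    have hconj : g * a * g⁻¹ ∈ X := (mem_normalizer_iff.1 hg a).1 haX
    refine mem_inf.2 ⟨mem_inf.2 ⟨mul_mem (inv_mem (hX haX)) (hX hconj),
      mul_mem (inv_mem haN) (le_normalizer hconj)⟩, ?_⟩
    have h4 : a⁻¹ * (g * a * g⁻¹) = ⁅a⁻¹, g⁆ := by
      rw [commutatorElement_def]; group
    rw [h4]
    exact commutator_mem_commutator (inv_mem haN) hg
  | @mul A g h _ _ ih1 ih2 =>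
    intro a ha
    have h1 := ih1 a ha
    have h2 := ih2 (g * a * g⁻¹) (conj_mem_map_conj ha g)
    have h3 : a⁻¹ * (h * g * a * (h * g)⁻¹) =
        (a⁻¹ * (g * a * g⁻¹)) * ((g * a * g⁻¹)⁻¹ * (h * (g * a * g⁻¹) * h⁻¹)) := by group
    rw [h3]
    exact mul_mem h1 h2

theorem inf_commutator_le_of_gen (P : Sylow p G) {Z : Subgroup G} {F : Subgroup G → Prop}
    (hF : ∀ X : Subgroup G, X ≤ (P : Subgroup G) → F X → (P : Subgroup G) ⊓ normalizer (X : Set G) ⊓
      ⁅normalizer (X : Set G), normalizer (X : Set G)⁆ ≤ Z)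
    (hgen : ∀ (A : Subgroup G) (g : G), A ≤ (P : Subgroup G) →
      A.map (MulAut.conj g).toMonoidHom ≤ (P : Subgroup G) → Gen (P : Subgroup G) F A g) :
    (P : Subgroup G) ⊓ commutator G ≤ Z := by
  apply inf_commutator_le P
  intro a ha g hag
  have h1 := hgen (zpowers a) g⁻¹ (by rwa [zpowers_le]) (by
    rw [MonoidHom.map_zpowers, zpowers_le]
    simpa using hag)
  have h2 := gen_comm_mem hF h1 a (mem_zpowers a)
  simpa using h2

/-- **S2001**. -/
theorem transfer_main (P : Sylow p G) (hdiv : p ∣ Nat.card G)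
    (hW : IsConjugacyFunctor p W) (hV : IsConjugacyFunctor p V)
    (hWZ : ∀ H : Subgroup G, IsPGroup p ↥H → H ⊓ centralizer ((H : Subgroup G) : Set G) ≤ W H)
    (hVZ : ∀ H : Subgroup G, IsPGroup p ↥H → V H ≤ H ⊓ centralizer ((H : Subgroup G) : Set G))
    (hVmono : ∀ H K : Subgroup G, IsPGroup p ↥H → IsPGroup p ↥K → H ≠ ⊥ → K ≠ ⊥ →
      H ⊓ centralizer ((H : Subgroup G) : Set G) ≤ K ⊓ centralizer ((K : Subgroup G) : Set G) → V H ≤ V K)
    (hloc : ∀ H : Subgroup G, (P : Subgroup G) ⊓ centralizer (((P : Subgroup G) : Subgroup G) : Set G) ≤ H →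
      H ≤ (P : Subgroup G) → ∃ Q : Subgroup G, Q ≤ normalizer ((H : Subgroup G) : Set G) ∧ IsPGroup p ↥Q ∧
      ¬ p ∣ (Q).relIndex (normalizer ((H : Subgroup G) : Set G)) ∧
      ∀ x : G, x ∈ Q ⊓ ⁅normalizer ((H : Subgroup G) : Set G), normalizer ((H : Subgroup G) : Set G)⁆ ↔
        ∃ a ∈ Q ⊓ ⁅normalizer ((H : Subgroup G) : Set G) ⊓ normalizer ((W Q : Subgroup G) : Set G),
          normalizer ((H : Subgroup G) : Set G) ⊓ normalizer ((W Q : Subgroup G) : Set G)⁆,
        ∃ b ∈ Q ⊓ ⁅normalizer ((H : Subgroup G) : Set G) ⊓ centralizer ((V Q : Subgroup G) : Set G),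
          normalizer ((H : Subgroup G) : Set G) ⊓ centralizer ((V Q : Subgroup G) : Set G)⁆, x = a * b) :
    ∀ x : G, x ∈ (P : Subgroup G) ⊓ commutator G ↔
      ∃ a ∈ (P : Subgroup G) ⊓ ⁅normalizer ((W (P : Subgroup G) : Subgroup G) : Set G),
          normalizer ((W (P : Subgroup G) : Subgroup G) : Set G)⁆,
        ∃ b ∈ (P : Subgroup G) ⊓ ⁅centralizer ((V (P : Subgroup G) : Subgroup G) : Set G),
          centralizer ((V (P : Subgroup G) : Subgroup G) : Set G)⁆, x = a * b := by
  have hP : IsPGroup p (P : Subgroup G) := P.isPGroup'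
  intro x
  constructor
  · intro hx
    have h1 := inf_commutator_le_of_gen P (F := fun X => IsWellPlaced p W (P : Subgroup G) X ∧
      (P : Subgroup G) ⊓ centralizer ((P : Subgroup G) : Set G) ≤ X) (fun X _ hX =>
        transfer_tower2 P hdiv hW hV hWZ hVmono hloc _ X hX.1 hX.2 le_rfl)
        (fun A g hA hg => gen_wellPlaced P hW hA hg) hx
    have hPC : (P : Subgroup G) ≤ centralizer ((V (P : Subgroup G) : Subgroup G) : Set G) := by
      rw [Subgroup.le_centralizer_iff]
      exact (hVZ _ hP).trans inf_le_right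
    have h2 : (P : Subgroup G) ⊓ ⁅normalizer ((W (P : Subgroup G) : Subgroup G) : Set G),
          normalizer ((W (P : Subgroup G) : Subgroup G) : Set G)⁆ ≤
        normalizer (((P : Subgroup G) ⊓ ⁅centralizer ((V (P : Subgroup G) : Subgroup G) : Set G),
          centralizer ((V (P : Subgroup G) : Subgroup G) : Set G)⁆ : Subgroup G) : Set G) :=
      inf_le_left.trans (le_normalizer_inf_commutator hPC)
    rw [← SetLike.mem_coe, coe_mul_of_left_le_normalizer_right _ _ h2] at h1
    obtain ⟨a, ha, b, hb, hab⟩ := Set.mem_mul.1 h1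
    exact ⟨a, ha, b, hb, hab.symm⟩
  · rintro ⟨a, ha, b, hb, rfl⟩
    refine mem_inf.2 ⟨mul_mem (mem_inf.1 ha).1 (mem_inf.1 hb).1, ?_⟩
    rw [commutator_def]
    exact mul_mem (commutator_mono le_top le_top (mem_inf.1 ha).2)
      (commutator_mono le_top le_top (mem_inf.1 hb).2)

end Cfsg.Agent.H42.CentralFunctor
end
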