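import Cfsg.Prelude.Def_ConjugacyFunctors
import Cfsg.Agent.Lib.GoldschmidtFusion
set_option linter.all false

/-!
# Conjugacy functors and well-placed subgroups

* basic properties of conjugacy functors (`Cfsg.IsConjugacyFunctor`);
* `exists_wellPlaced`: every subgroup of a Sylow `p`-subgroup has a well-placed conjugate;
* `IsWellPlaced.succ`, `lt_succ`: the tower of a well-placed subgroup.
-/

set_option autoImplicit false

namespace Cfsg.Agent.H42.Tower

open Subgroup Cfsg.Agent.Lib.GoldschmidtFusion

variable {G : Type*} [Group G]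

section Functor

variable {p : ℕ} {W : Subgroup G → Subgroup G}

theorem W_le (hW : IsConjugacyFunctor p W) {P : Subgroup G} (hP : IsPGroup p P) : W P ≤ P :=
  (hW P hP).1

theorem W_ne_bot (hW : IsConjugacyFunctor p W) {P : Subgroup G} (hP : IsPGroup p P) (h : P ≠ ⊥) :
    W P ≠ ⊥ := (hW P hP).2.1 h

theorem W_conj (hW : IsConjugacyFunctor p W) {P : Subgroup G} (hP : IsPGroup p P) (g : G) :
    W (P.map (MulAut.conj g).toMonoidHom) = (W P).map (MulAut.conj g).toMonoidHom :=
  (hW P hP).2.2 g

/-- The normalizer of `P` normalizes `W P`. -/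
theorem normalizer_le_W (hW : IsConjugacyFunctor p W) {P : Subgroup G} (hP : IsPGroup p P) :
    normalizer (P : Set G) ≤ normalizer ((W P : Subgroup G) : Set G) := by
  intro g hg
  rw [mem_normalizer_iff_map_conj] at hg ⊢
  rw [← W_conj hW hP, hg]

theorem le_normalizer_W (hW : IsConjugacyFunctor p W) {P : Subgroup G} (hP : IsPGroup p P) :
    P ≤ normalizer ((W P : Subgroup G) : Set G) :=
  le_normalizer.trans (normalizer_le_W hW hP)

end Functor

section Tower

variable {p : ℕ} {W : Subgroup G → Subgroup G} {S : Subgroup G}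

theorem tower_zero (T : Subgroup G) : functorTower W S T 0 = T := rfl

theorem tower_succ (T : Subgroup G) (i : ℕ) : functorTower W S T (i + 1) =
    W (S ⊓ normalizer ((functorTower W S T i : Subgroup G) : Set G)) := rfl

theorem tower_shift (T : Subgroup G) (i : ℕ) :
    functorTower W S (W (S ⊓ normalizer (T : Set G))) i = functorTower W S T (i + 1) := by
  induction i with
  | zero => rfl
  | succ i ih => rw [tower_succ, ih, tower_succ T (i + 1)]

theorem tower_le (hW : IsConjugacyFunctor p W) (hS : IsPGroup p S) {T : Subgroup G} (hT : T ≤ S)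
    (i : ℕ) : functorTower W S T i ≤ S := by
  cases i with
  | zero => exact hT
  | succ i =>
    rw [tower_succ]
    exact (W_le hW (hS.to_le inf_le_left)).trans inf_le_left

theorem tower_norm_mono (hW : IsConjugacyFunctor p W) (hS : IsPGroup p S) (T : Subgroup G) (i : ℕ) :
    S ⊓ normalizer ((functorTower W S T i : Subgroup G) : Set G) ≤
      S ⊓ normalizer ((functorTower W S T (i + 1) : Subgroup G) : Set G) := by
  refine le_inf inf_le_left ?_
  rw [tower_succ]
  exact le_normalizer_W hW (hS.to_le inf_le_left)

theorem tower_norm_le (hW : IsConjugacyFunctor p W) (hS : IsPGroup p S) (T : Subgroup G) {i j : ℕ}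
    (hij : i ≤ j) : S ⊓ normalizer ((functorTower W S T i : Subgroup G) : Set G) ≤
      S ⊓ normalizer ((functorTower W S T j : Subgroup G) : Set G) := by
  induction hij with
  | refl => exact le_rfl
  | step _ ih => exact ih.trans (tower_norm_mono hW hS T _)

end Tower

section Sylow

variable [Finite G] {p : ℕ} [hp : Fact p.Prime] {W : Subgroup G → Subgroup G}

omit hp in
/-- A `p`-subgroup containing a subgroup of index prime to `p` in `N` coincides with it. -/
theorem eq_of_le_of_not_dvd [Fact p.Prime] {X Y N : Subgroup G} (hXY : X ≤ Y) (hYN : Y ≤ N)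
    (hY : IsPGroup p Y) (hX : ¬ p ∣ X.relIndex N) : X = Y := by
  refine le_antisymm hXY ?_
  rw [← relIndex_eq_one]
  have h1 : X.relIndex Y ∣ X.relIndex N := by
    rw [← relIndex_mul_relIndex X Y N hXY hYN]
    exact Dvd.intro _ rfl
  have h2 : ∃ k, X.relIndex Y = p ^ k := by
    have : (X.subgroupOf Y).index ∣ Nat.card Y := (X.subgroupOf Y).index_dvd_card
    obtain ⟨n, hn⟩ := IsPGroup.iff_card.1 hY
    rw [hn] at this
    obtain ⟨k, _, hk⟩ := (Nat.dvd_prime_pow (Fact.out : p.Prime)).1 this
    exact ⟨k, hk⟩
  obtain ⟨k, hk⟩ := h2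
  cases k with
  | zero => simpa using hk
  | succ k =>
    exfalso
    apply hX
    refine dvd_trans ?_ h1
    rw [hk]
    exact dvd_pow_self p (Nat.succ_ne_zero k)

/-- The main step in the construction of well-placed conjugates. -/
theorem exists_step (S : Sylow p G) (hW : IsConjugacyFunctor p W) (T : Subgroup G)
    (hT : T ≤ (S : Subgroup G)) (n : ℕ)
    (hn : ∀ i < n, ¬ p ∣ ((S : Subgroup G) ⊓ normalizer ((functorTower W S T i : Subgroup G) : Set G)).relIndex
      (normalizer ((functorTower W S T i : Subgroup G) : Set G))) :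
    ∃ g : G, T.map (MulAut.conj g).toMonoidHom ≤ (S : Subgroup G) ∧ ∀ i < n + 1,
      ¬ p ∣ ((S : Subgroup G) ⊓ normalizer ((functorTower W S (T.map (MulAut.conj g).toMonoidHom) i :
        Subgroup G) : Set G)).relIndex
      (normalizer ((functorTower W S (T.map (MulAut.conj g).toMonoidHom) i : Subgroup G) : Set G)) := by
  have hS : IsPGroup p (S : Subgroup G) := S.isPGroup'
  set N := normalizer ((functorTower W S T n : Subgroup G) : Set G) with hN
  obtain ⟨R, hSR, hRN, hR, hRi⟩ := exists_sylow_in (p := p) (N := N) (D := (S : Subgroup G) ⊓ N)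
    inf_le_right (hS.to_le inf_le_left)
  obtain ⟨Q, hQ⟩ := hR.exists_le_sylow
  obtain ⟨g, hg⟩ := MulAction.exists_smul_eq G Q S
  have hgR : R.map (MulAut.conj g).toMonoidHom ≤ (S : Subgroup G) := by
    rw [← hg, Sylow.coe_subgroup_smul]
    rintro _ ⟨r, hr, rfl⟩
    exact Subgroup.smul_mem_pointwise_smul _ (MulAut.conj g) _ (hQ hr)
  have hle : ∀ j ≤ n, (S : Subgroup G) ⊓ normalizer ((functorTower W S T j : Subgroup G) : Set G) ≤ R :=
    fun j hj => (tower_norm_le hW hS T hj).trans hSR
  -- the tower of the conjugate
  have key : ∀ j ≤ n, functorTower W S (T.map (MulAut.conj g).toMonoidHom) j =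
      (functorTower W S T j).map (MulAut.conj g).toMonoidHom := by
    intro j
    induction j with
    | zero => intro _; rfl
    | succ j ih =>
      intro hj
      have ih := ih (by omega)
      rw [tower_succ, ih]
      have h1 : ((S : Subgroup G) ⊓ normalizer ((functorTower W S T j : Subgroup G) : Set G)).map
          (MulAut.conj g).toMonoidHom = (S : Subgroup G) ⊓
          normalizer (((functorTower W S T j).map (MulAut.conj g).toMonoidHom : Subgroup G) : Set G) := by
        apply eq_of_le_of_not_dvd (p := p) (N := normalizer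
          (((functorTower W S T j).map (MulAut.conj g).toMonoidHom : Subgroup G) : Set G))
        · refine le_inf ((map_conj_mono (hle j (by omega)) g).trans hgR) ?_
          rw [← map_conj_normalizer]
          exact map_conj_mono inf_le_right g
        · exact inf_le_right
        · exact hS.to_le inf_le_left
        · rw [← map_conj_normalizer, relIndex_map_map_of_injective _ _ (MulAut.conj g).injective]
          exact hn j (by omega)
      rw [← h1, W_conj hW (hS.to_le inf_le_left), tower_succ]
  refine ⟨g, ?_, ?_⟩
  · refine le_trans (map_conj_mono (le_trans ?_ (hle 0 (Nat.zero_le n))) g) hgR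
    exact le_inf hT le_normalizer
  · intro i hi
    rw [key i (by omega), ← map_conj_normalizer]
    have h2 : (R ⊓ normalizer ((functorTower W S T i : Subgroup G) : Set G)).map (MulAut.conj g).toMonoidHom ≤
        (S : Subgroup G) ⊓ (normalizer ((functorTower W S T i : Subgroup G) : Set G)).map
          (MulAut.conj g).toMonoidHom :=
      le_inf ((map_conj_mono inf_le_left g).trans hgR) (map_conj_mono inf_le_right g)
    intro hdvd
    have h3 := hdvd.trans (relIndex_dvd_of_le_left _ h2)
    rw [relIndex_map_map_of_injective _ _ (MulAut.conj g).injective] at h3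
    rcases Nat.lt_or_ge i n with hin | hin
    · apply hn i hin
      refine h3.trans (relIndex_dvd_of_le_left _ ?_)
      exact le_inf (hle i (by omega)) inf_le_right
    · have : i = n := by omega
      subst this
      apply hRi
      rw [← hN, inf_of_le_left hRN] at h3
      exact h3

/-- **Existence of well-placed conjugates.** -/
theorem exists_wellPlaced (S : Sylow p G) (hW : IsConjugacyFunctor p W) (T : Subgroup G)
    (hT : T ≤ (S : Subgroup G)) :
    ∃ g : G, IsWellPlaced p W (S : Subgroup G) (T.map (MulAut.conj g).toMonoidHom) := by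
  have h : ∀ n : ℕ, ∃ g : G, T.map (MulAut.conj g).toMonoidHom ≤ (S : Subgroup G) ∧ ∀ i < n,
      ¬ p ∣ ((S : Subgroup G) ⊓ normalizer ((functorTower W S (T.map (MulAut.conj g).toMonoidHom) i :
        Subgroup G) : Set G)).relIndex
      (normalizer ((functorTower W S (T.map (MulAut.conj g).toMonoidHom) i : Subgroup G) : Set G)) := by
    intro n
    induction n with
    | zero =>
      refine ⟨1, by rw [map_conj_one]; exact hT, fun i hi => absurd hi (by omega)⟩
    | succ n ih =>
      obtain ⟨g, hg, hgn⟩ := ih
      obtain ⟨k, hk, hkn⟩ := exists_step S hW _ hg n hgn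
      rw [map_conj_map_conj] at hk hkn
      exact ⟨k * g, hk, hkn⟩
  choose g hg using h
  obtain ⟨x, hx⟩ := Finite.exists_infinite_fiber g
  refine ⟨x, ?_, ?_⟩
  · obtain ⟨n, hn⟩ := hx.nonempty
    rw [Set.mem_preimage, Set.mem_singleton_iff] at hn
    rw [← hn]; exact (hg n).1
  · intro i
    have hx' : (g ⁻¹' {x}).Infinite := Set.infinite_coe_iff.1 hx
    obtain ⟨n, hn, hin⟩ := hx'.exists_gt i
    rw [Set.mem_preimage, Set.mem_singleton_iff] at hn
    rw [← hn]
    exact (hg n).2 i hin

omit [Finite G] hp in
/-- The next term of the tower of a well-placed subgroup is well placed. -/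
theorem wellPlaced_succ {S T : Subgroup G} (hW : IsConjugacyFunctor p W) (hS : IsPGroup p S)
    (hT : IsWellPlaced p W S T) : IsWellPlaced p W S (W (S ⊓ normalizer (T : Set G))) := by
  refine ⟨(W_le hW (hS.to_le inf_le_left)).trans inf_le_left, fun i => ?_⟩
  rw [tower_shift]
  exact hT.2 (i + 1)

omit [Finite G] hp in
theorem wellPlaced_fullyNormalized {S T : Subgroup G} (hT : IsWellPlaced p W S T) :
    ¬ p ∣ (S ⊓ normalizer (T : Set G)).relIndex (normalizer (T : Set G)) := hT.2 0

/-- The normalizers in `S` of the terms of a tower grow strictly until they reach `S`. -/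
theorem lt_succ {S T : Subgroup G} (hW : IsConjugacyFunctor p W) (hS : IsPGroup p S)
    (hne : S ⊓ normalizer (T : Set G) ≠ S) :
    S ⊓ normalizer (T : Set G) <
      S ⊓ normalizer ((W (S ⊓ normalizer (T : Set G)) : Subgroup G) : Set G) := by
  have h1 : S ⊓ normalizer (T : Set G) < S := lt_of_le_of_ne inf_le_left hne
  refine lt_of_lt_of_le (lt_inf_normalizer hS h1) ?_
  exact le_inf inf_le_left (inf_le_right.trans (normalizer_le_W hW (hS.to_le inf_le_left)))

end Sylow

end Cfsg.Agent.H42.Tower
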